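import Cfsg.Agent.H35.Collins.CentreInvolutions

/-!
The central involutions of the invariant Sylow 2-subgroup form a group of order at least eight.
-/

set_option autoImplicit false

namespace Cfsg.Agent.H35.Collins

open Subgroup

universe u

variable {K : Type u} [Group K] [Finite K] {σ : MulAut K}

theorem Simp.exists_centInv_ne_one (S : Sylow 2 K) (h : Simp σ (S : Subgroup K)) :
    ∃ u ∈ centInv (S : Subgroup K), u ≠ 1 := by
  haveI := Fact.mk Nat.prime_two
  have hSne : (S : Subgroup K) ≠ ⊥ := S.ne_bot_of_dvd_card h.two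
  haveI : Nontrivial (S : Subgroup K) := (nontrivial_iff_ne_bot _).mpr hSne
  haveI : Nontrivial (center (S : Subgroup K)) := S.2.center_nontrivial
  obtain ⟨z, hz⟩ := exists_prime_orderOf_dvd_card' 2 (G := center (S : Subgroup K)) (by
    obtain ⟨n, hn⟩ := IsPGroup.iff_card.1 (S.2.to_subgroup (center (S : Subgroup K)))
    rw [hn]
    refine dvd_pow_self 2 fun h0 => ?_
    rw [h0, pow_zero] at hn
    exact absurd hn (Finite.one_lt_card).ne')
  refine ⟨((z : (S : Subgroup K)) : K), ⟨(z : (S : Subgroup K)).2, fun p hp => ?_, ?_⟩, ?_⟩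
  · have h1 := mem_center_iff.mp z.2 ⟨p, hp⟩
    exact (congrArg Subtype.val h1).symm
  · rw [← pow_two]
    simpa [hz] using congrArg (fun t : center (S : Subgroup K) => ((t : (S : Subgroup K)) : K))
      (pow_orderOf_eq_one z)
  · intro h1
    rw [← Subgroup.orderOf_coe, ← Subgroup.orderOf_coe, h1, orderOf_one] at hz
    omega

theorem Simp.image_ne {S : Sylow 2 K} (h : Simp σ (S : Subgroup K)) {u : K}
    (hu : u ∈ centInv (S : Subgroup K)) (hu1 : u ≠ 1) :
    σ u ≠ u ∧ σ u ≠ 1 ∧ σ (σ u) ≠ σ u ∧ σ (σ u) ≠ u := by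
  have h0 : σ u ≠ u := fun e => hu1 (h.eq_one_of_fixed_mem S hu.1 e)
  refine ⟨h0, fun e => hu1 (σ.injective (by rw [e, map_one])), fun e => h0 (σ.injective e),
    fun e => h0 ?_⟩
  have h1 := h.cube_apply u
  rwa [e] at h1

theorem Simp.eight_le [IsSimpleGroup K] (hna : ¬ ∀ a b : K, a * b = b * a) (S : Sylow 2 K)
    (h : Simp σ (S : Subgroup K)) {u : K} (hu : u ∈ centInv (S : Subgroup K)) (hu1 : u ≠ 1) :
    2 ^ 3 ≤ Nat.card (centInv (S : Subgroup K)) := by
  haveI := Fact.mk Nat.prime_two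
  classical
  have hσu := h.map_mem_centInv hu
  obtain ⟨hne01, hσu1, hne12, hne02⟩ := h.image_ne hu hu1
  by_contra hlt
  push_neg at hlt
  obtain ⟨j, hj⟩ := IsPGroup.iff_card.mp (S.2.to_le (centInv_le (S : Subgroup K)))
  have hle4 : Nat.card (centInv (S : Subgroup K)) ≤ 4 := by
    rw [hj] at hlt ⊢
    have : j < 3 := (Nat.pow_lt_pow_iff_right (by norm_num)).mp hlt
    calc (2 : ℕ) ^ j ≤ 2 ^ 2 := Nat.pow_le_pow_right (by norm_num) (by omega)
      _ = 4 := by norm_num
  haveI := Fintype.ofFinite K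
  have hset : ∀ y ∈ centInv (S : Subgroup K), y ≠ 1 → y = u ∨ y = σ u ∨ y = σ (σ u) := by
    intro y hy hy1
    by_contra hno
    push_neg at hno
    have hsub : ({1, u, σ u, σ (σ u), y} : Finset K) ⊆ Finset.univ.filter (· ∈ centInv (S : Subgroup K)) := by
      intro x hx
      simp only [Finset.mem_insert, Finset.mem_singleton] at hx
      simp only [Finset.mem_filter, Finset.mem_univ, true_and]
      rcases hx with rfl | rfl | rfl | rfl | rfl
      exacts [one_mem _, hu, hσu, h.map_mem_centInv hσu, hy]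
    have h5 : ({1, u, σ u, σ (σ u), y} : Finset K).card = 5 := by
      have e1 : σ (σ u) ≠ 1 := fun e => hσu1 (σ.injective (by rw [e, map_one]))
      simp [hu1.symm, hσu1.symm, e1.symm, hy1.symm, hne01.symm, hne02.symm, hne12.symm,
        hno.1.symm, hno.2.1.symm, hno.2.2.symm]
    have h6 := Finset.card_le_card hsub
    rw [h5, ← Fintype.card_subtype, ← Nat.card_eq_fintype_card] at h6
    omega
  have hA : ∀ c ∈ normalizer ((S : Subgroup K) : Set K), σ c = c → ∀ y ∈ centInv (S : Subgroup K), c * y * c⁻¹ = y := by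
    intro c hc hcσ
    refine h.semiregular hna S hc hcσ hu hu1 ?_
    have h1 : c * u * c⁻¹ ≠ 1 := fun e => hu1 (by rwa [conj_eq_one_iff] at e)
    rcases hset _ (conj_mem_centInv hc hu) h1 with h2 | h2 | h2
    · exact h2
    · exact absurd h2 (h.conj_ne hna S hc hcσ hu hu1)
    · exfalso
      refine h.conj_ne hna S (inv_mem hc) (by rw [map_inv, hcσ]) (h.map_mem_centInv hσu)
        (fun e => hσu1 (σ.injective (by rw [e, map_one]))) ?_
      rw [h.cube_apply, inv_inv, ← h2]; group
  let Yu : Subgroup K := zpowers u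
  let Yv : Subgroup K := zpowers (σ u)
  rcases h.not_disjoint hna S (Y := Yu) (Y' := Yv) (zpowers_le.mpr hu) (zpowers_le.mpr hσu)
    (fun c hc hcσ y hy => by rw [hA c hc hcσ y (zpowers_le.mpr hu hy)]; exact hy)
    (fun c hc hcσ y hy => by rw [hA c hc hcσ y (zpowers_le.mpr hσu hy)]; exact hy)
    (by
      rw [eq_bot_iff]
      rintro x ⟨hx1, hx2⟩
      obtain ⟨i, rfl⟩ := mem_zpowers_iff.mp hx1
      obtain ⟨i', hi'⟩ := mem_zpowers_iff.mp hx2
      rcases Int.even_or_odd i with ⟨a, ha⟩ | ⟨a, ha⟩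
      · rw [mem_bot, ha, ← two_mul, zpow_mul, zpow_two, hu.2.2, one_zpow]
      · have hxu : u ^ i = u := by
          rw [ha, zpow_add, zpow_mul, zpow_two, hu.2.2, one_zpow, one_mul, zpow_one]
        rw [hxu] at hi'
        rcases Int.even_or_odd i' with ⟨b, hb⟩ | ⟨b, hb⟩
        · rw [hb, ← two_mul, zpow_mul, zpow_two, hσu.2.2, one_zpow] at hi'
          exact absurd hi'.symm hu1
        · rw [hb, zpow_add, zpow_mul, zpow_two, hσu.2.2, one_zpow, one_mul, zpow_one] at hi'
          exact absurd hi' hne01) with h1 | h1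
  · exact hu1 (zpowers_eq_bot.mp h1)
  · exact hσu1 (zpowers_eq_bot.mp h1)

end Cfsg.Agent.H35.Collins
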