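import Cfsg.Agent.H35.Collins.Setting
import Cfsg.Agent.H33.ProductFusion.Theorem
import Cfsg.Agent.H19.Basic

/-!
The central involutions of an invariant Sylow 2-subgroup in the simple case: two invariant
subgroups of them cannot be disjoint, and the fixed points act semiregularly on them.
-/

set_option autoImplicit false

namespace Cfsg.Agent.H35.Collins

open Subgroup
open scoped commutatorElement

universe u

/-- The data of the simple case. -/
structure Simp {K : Type u} [Group K] (σ : MulAut K) (S : Subgroup K) : Prop where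
  three : ¬ 3 ∣ Nat.card K
  two : 2 ∣ Nat.card K
  cube : σ ^ 3 = 1
  comm : ∀ x y : K, σ x = x → σ y = y → Commute x y
  odd : ∀ x : K, σ x = x → x * x = 1 → x = 1
  inv : ∀ x ∈ S, σ x ∈ S
  fus : ∀ (A : Set K) (g : K), A ⊆ S → (∀ a ∈ A, g * a * g⁻¹ ∈ S) →
    ∃ m ∈ normalizer (S : Set K), ∀ a ∈ A, m * a * m⁻¹ = g * a * g⁻¹
  act : ∀ n ∈ normalizer (S : Set K), ∃ c ∈ normalizer (S : Set K), σ c = c ∧
    ∀ z ∈ S, (∀ p ∈ S, Commute z p) → n * z * n⁻¹ = c * z * c⁻¹

variable {K : Type u} [Group K]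

/-- The elements of square one in the centre of `S`. -/
def centInv (S : Subgroup K) : Subgroup K where
  carrier := {z | z ∈ S ∧ (∀ p ∈ S, Commute z p) ∧ z * z = 1}
  mul_mem' {a b} ha hb := ⟨mul_mem ha.1 hb.1, fun p hp => (ha.2.1 p hp).mul_left (hb.2.1 p hp), by
    rw [mul_assoc a b (a * b), ← mul_assoc b a b, ← (ha.2.1 b hb.1).eq, mul_assoc a b b,
      hb.2.2, mul_one, ha.2.2]⟩
  one_mem' := ⟨one_mem _, fun p _ => Commute.one_left p, one_mul 1⟩
  inv_mem' {a} ha := by rw [inv_eq_of_mul_eq_one_right ha.2.2]; exact ha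

theorem mem_centInv {S : Subgroup K} {z : K} :
    z ∈ centInv S ↔ z ∈ S ∧ (∀ p ∈ S, Commute z p) ∧ z * z = 1 := Iff.rfl

theorem centInv_le (S : Subgroup K) : centInv S ≤ S := fun _ hz => hz.1

theorem centInv_commute {S : Subgroup K} {a b : K} (ha : a ∈ centInv S) (hb : b ∈ centInv S) :
    Commute a b := ha.2.1 b hb.1

theorem conj_mem_centInv {S : Subgroup K} {n z : K} (hn : n ∈ normalizer (S : Set K))
    (hz : z ∈ centInv S) : n * z * n⁻¹ ∈ centInv S := by
  refine ⟨(mem_normalizer_iff.mp hn z).mp hz.1, fun p hp => ?_, ?_⟩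
  · have h1 := hz.2.1 (n⁻¹ * p * n) ((mem_normalizer_iff''.mp hn p).mp hp)
    have h2 := h1.map (MulAut.conj n).toMonoidHom
    simpa [mul_assoc] using h2
  · rw [show n * z * n⁻¹ * (n * z * n⁻¹) = n * (z * z) * n⁻¹ by group, hz.2.2]; group

variable [Finite K] {σ : MulAut K}

theorem odd_orderOf_fixed (hodd : ∀ x : K, σ x = x → x * x = 1 → x = 1) {c : K} (hc : σ c = c) :
    Odd (orderOf c) := by
  by_contra hev
  rw [Nat.not_odd_iff_even] at hev
  obtain ⟨j, hj⟩ := hev
  have hpos : 0 < orderOf c := orderOf_pos c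
  have h1 : c ^ j * c ^ j = 1 := by rw [← pow_add, ← hj, pow_orderOf_eq_one]
  have h2 := hodd _ (by rw [map_pow, hc]) h1
  exact absurd (Nat.le_of_dvd (by omega) (orderOf_dvd_of_pow_eq_one h2)) (by omega)

theorem Simp.cube_apply {S : Subgroup K} (h : Simp σ S) (x : K) : σ (σ (σ x)) = x := by
  have h1 := DFunLike.congr_fun h.cube x
  simpa [pow_succ] using h1

theorem Simp.map_mem_centInv {S : Subgroup K} (h : Simp σ S) {z : K} (hz : z ∈ centInv S) :
    σ z ∈ centInv S := by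
  have hσS : S.map σ.toMonoidHom = S := by
    refine eq_of_le_of_card_ge ?_ (le_of_eq (card_map_of_injective σ.injective).symm)
    rintro _ ⟨x, hx, rfl⟩; exact h.inv x hx
  refine ⟨h.inv z hz.1, fun p hp => ?_, by rw [← map_mul, hz.2.2, map_one]⟩
  rw [← hσS] at hp
  obtain ⟨q, hq, rfl⟩ := hp
  exact (hz.2.1 q hq).map σ

/-- A subgroup of central involutions invariant under the fixed points of the normaliser is
strongly closed in `S`. -/
theorem Simp.stronglyClosed {S : Subgroup K} (h : Simp σ S) {Y : Subgroup K} (hY : Y ≤ centInv S)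
    (hinvY : ∀ c ∈ normalizer (S : Set K), σ c = c → ∀ y ∈ Y, c * y * c⁻¹ ∈ Y) :
    Cfsg.IsStronglyClosed Y S := by
  refine ⟨hY.trans (centInv_le S), fun x hx g hg => ?_⟩
  obtain ⟨m, hm, hmx⟩ := h.fus {x} g (Set.singleton_subset_iff.mpr (hY hx).1)
    (fun a ha => by rw [Set.mem_singleton_iff.mp ha]; exact hg)
  obtain ⟨c, hcN, hcσ, hc⟩ := h.act m hm
  rw [← hmx x rfl, hc x (hY hx).1 (hY hx).2.1]
  exact hinvY c hcN hcσ x hx

/-- Two invariant subgroups of central involutions of a nonabelian simple group meet. -/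
theorem Simp.not_disjoint [IsSimpleGroup K] (hna : ¬ ∀ a b : K, a * b = b * a) (S : Sylow 2 K)
    (h : Simp σ (S : Subgroup K)) {Y Y' : Subgroup K} (hY : Y ≤ centInv (S : Subgroup K))
    (hY' : Y' ≤ centInv (S : Subgroup K))
    (hinvY : ∀ c ∈ normalizer ((S : Subgroup K) : Set K), σ c = c → ∀ y ∈ Y, c * y * c⁻¹ ∈ Y)
    (hinvY' : ∀ c ∈ normalizer ((S : Subgroup K) : Set K), σ c = c → ∀ y ∈ Y', c * y * c⁻¹ ∈ Y')
    (hdisj : Y ⊓ Y' = ⊥) : Y = ⊥ ∨ Y' = ⊥ := by
  haveI := Fact.mk Nat.prime_two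
  by_contra hne
  push_neg at hne
  have htop : ∀ A : Subgroup K, A ≠ ⊥ → normalClosure (A : Set K) = ⊤ := by
    intro A hA
    rcases (normalClosure_normal (s := (A : Set K))).eq_bot_or_eq_top with h1 | h1
    · exact absurd (le_bot_iff.mp (h1 ▸ le_normalClosure)) hA
    · exact h1
  have hpf := H33.ProductFusion.productFusion K S Y Y' (h.stronglyClosed hY hinvY)
    (h.stronglyClosed hY' hinvY') (fun a ha b hb => centInv_commute (hY ha) (hY' hb)) hdisj
  rw [htop Y hne.1, htop Y' hne.2] at hpf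
  rcases (H19.pPrimeCore_normal 2 K).eq_bot_or_eq_top with h1 | h1
  · refine hna fun a b => (commutatorElement_eq_one_iff_mul_comm).mp ?_
    have h2 := hpf (commutator_mem_commutator (mem_top a) (mem_top b))
    rw [show Cfsg.oddCore K = Cfsg.pPrimeCore 2 K from rfl, h1, mem_bot] at h2
    exact h2
  · have h2 := H19.pPrimeCore_coprime (G := K) 2
    rw [h1, card_top] at h2
    exact absurd (Nat.eq_one_of_dvd_coprimes h2 h.two dvd_rfl) (by omega)

/-- An automorphism of odd order commuting with the fixed points fixes all or none of the central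
involutions. -/
theorem Simp.eq_of_fix [IsSimpleGroup K] (hna : ¬ ∀ a b : K, a * b = b * a) (S : Sylow 2 K)
    (h : Simp σ (S : Subgroup K)) (φ : MulAut K)
    (hφZ : ∀ z ∈ centInv (S : Subgroup K), φ z ∈ centInv (S : Subgroup K))
    {k : ℕ} (hk : Odd k) (hφk : φ ^ k = 1)
    (hcommute : ∀ c ∈ normalizer ((S : Subgroup K) : Set K), σ c = c →
      ∀ z ∈ centInv (S : Subgroup K), φ (c * z * c⁻¹) = c * φ z * c⁻¹)
    {w : K} (hw : w ∈ centInv (S : Subgroup K)) (hw1 : w ≠ 1) (hwf : φ w = w) :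
    ∀ z ∈ centInv (S : Subgroup K), φ z = z := by
  let Y : Subgroup K :=
    { carrier := {z | z ∈ centInv (S : Subgroup K) ∧ φ z = z}
      mul_mem' := fun {a b} ha hb => ⟨mul_mem ha.1 hb.1, by rw [map_mul, ha.2, hb.2]⟩
      one_mem' := ⟨one_mem _, map_one φ⟩
      inv_mem' := fun {a} ha => ⟨inv_mem ha.1, by rw [map_inv, ha.2]⟩ }
  let Y' : Subgroup K :=
    { carrier := {x | ∃ z ∈ centInv (S : Subgroup K), φ z * z = x}
      mul_mem' := by
        rintro _ _ ⟨a, ha, rfl⟩ ⟨b, hb, rfl⟩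
        refine ⟨a * b, mul_mem ha hb, ?_⟩
        rw [map_mul, mul_assoc (φ a) (φ b) (a * b), ← mul_assoc (φ b) a b,
          (centInv_commute (hφZ b hb) ha).eq]
        group
      one_mem' := ⟨1, one_mem _, by rw [map_one, one_mul]⟩
      inv_mem' := by
        rintro _ ⟨a, ha, rfl⟩
        refine ⟨a⁻¹, inv_mem ha, ?_⟩
        rw [map_inv, mul_inv_rev, (centInv_commute (inv_mem ha) (inv_mem (hφZ a ha))).eq] }
  have hdisj : Y ⊓ Y' = ⊥ := by
    rw [eq_bot_iff]
    rintro x ⟨⟨hxZ, hxfix⟩, z, hz, rfl⟩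
    have hstep : φ z = (φ z * z) * z := by rw [mul_assoc, hz.2.2, mul_one]
    have hiter : ∀ i : ℕ, (φ ^ i) z = (φ z * z) ^ i * z := by
      intro i
      induction i with
      | zero => simp
      | succ i ih =>
        rw [pow_succ', MulAut.mul_apply, ih, map_mul φ, map_pow, hxfix]
        rw [pow_succ, mul_assoc _ (φ z * z) z, ← hstep]
    have h1 := hiter k
    rw [hφk, MulAut.one_apply] at h1
    have h2 : (φ z * z) ^ k = 1 := by
      rw [eq_comm, mul_eq_right] at h1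
      exact h1
    obtain ⟨i, rfl⟩ := hk
    rw [pow_succ, pow_mul, pow_two, hxZ.2.2, one_pow, one_mul] at h2
    exact mem_bot.mpr h2
  rcases h.not_disjoint hna S (Y := Y) (Y' := Y') (fun z hz => hz.1)
    (by rintro _ ⟨z, hz, rfl⟩; exact mul_mem (hφZ z hz) hz)
    (fun c hc hcσ z hz => ⟨conj_mem_centInv hc hz.1, by rw [hcommute c hc hcσ z hz.1, hz.2]⟩)
    (by
      rintro c hc hcσ _ ⟨z, hz, rfl⟩
      refine ⟨c * z * c⁻¹, conj_mem_centInv hc hz, ?_⟩
      rw [hcommute c hc hcσ z hz]; group)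
    hdisj with h1 | h1
  · exact absurd (mem_bot.mp (h1 ▸ (show w ∈ Y from ⟨hw, hwf⟩))) hw1
  · intro z hz
    have h2 : φ z * z = 1 := mem_bot.mp (h1 ▸ (show φ z * z ∈ Y' from ⟨z, hz, rfl⟩))
    rw [mul_eq_one_iff_eq_inv.mp h2, inv_eq_of_mul_eq_one_right hz.2.2]

/-- A fixed point of the normaliser fixing one nontrivial central involution fixes all. -/
theorem Simp.semiregular [IsSimpleGroup K] (hna : ¬ ∀ a b : K, a * b = b * a) (S : Sylow 2 K)
    (h : Simp σ (S : Subgroup K)) {c : K} (hc : c ∈ normalizer ((S : Subgroup K) : Set K))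
    (hcσ : σ c = c) {w : K} (hw : w ∈ centInv (S : Subgroup K)) (hw1 : w ≠ 1)
    (hwf : c * w * c⁻¹ = w) : ∀ z ∈ centInv (S : Subgroup K), c * z * c⁻¹ = z := by
  refine h.eq_of_fix hna S (MulAut.conj c) (fun z hz => conj_mem_centInv hc hz)
    (odd_orderOf_fixed h.odd hcσ) (by rw [← map_pow, pow_orderOf_eq_one, map_one])
    (fun d hd hdσ z hz => ?_) hw hw1 hwf
  simp only [MulAut.conj_apply]
  have hcd : Commute c d := h.comm c d hcσ hdσ
  calc c * (d * z * d⁻¹) * c⁻¹ = (c * d) * z * (c * d)⁻¹ := by group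
    _ = (d * c) * z * (d * c)⁻¹ := by rw [hcd.eq]
    _ = d * (c * z * c⁻¹) * d⁻¹ := by group

theorem Simp.eq_one_of_fixed_mem (S : Sylow 2 K) (h : Simp σ (S : Subgroup K)) {x : K}
    (hx : x ∈ (S : Subgroup K)) (hσx : σ x = x) : x = 1 := by
  have h1 := odd_orderOf_fixed h.odd hσx
  obtain ⟨n, hn⟩ := S.2 ⟨x, hx⟩
  have h2 : x ^ 2 ^ n = 1 := by simpa using congrArg Subtype.val hn
  rw [← orderOf_eq_one_iff]
  exact Nat.eq_one_of_dvd_coprimes ((Nat.coprime_two_left.mpr h1).pow_left n)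
    (orderOf_dvd_of_pow_eq_one h2) dvd_rfl

/-- No fixed point of the normaliser carries a nontrivial central involution to its image. -/
theorem Simp.conj_ne [IsSimpleGroup K] (hna : ¬ ∀ a b : K, a * b = b * a) (S : Sylow 2 K)
    (h : Simp σ (S : Subgroup K)) {c : K} (hc : c ∈ normalizer ((S : Subgroup K) : Set K))
    (hcσ : σ c = c) {z : K} (hz : z ∈ centInv (S : Subgroup K)) (hz1 : z ≠ 1) :
    c * z * c⁻¹ ≠ σ z := by
  intro he
  have hcN : c⁻¹ ∈ normalizer ((S : Subgroup K) : Set K) := inv_mem hc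
  have happ : ∀ x, (σ * MulAut.conj c⁻¹) x = c⁻¹ * σ x * c := fun x => by
    rw [MulAut.mul_apply, MulAut.conj_apply, inv_inv, map_mul, map_mul, map_inv, hcσ]
  have hcomm : Commute σ (MulAut.conj c⁻¹) := by
    ext x
    rw [happ, MulAut.mul_apply, MulAut.conj_apply, inv_inv]
  have hall := h.eq_of_fix hna S (σ * MulAut.conj c⁻¹)
    (fun w hw => by
      rw [happ]
      have := conj_mem_centInv hcN (h.map_mem_centInv hw)
      rwa [inv_inv] at this)
    ((by decide : Odd 3).mul (odd_orderOf_fixed h.odd hcσ))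
    (by rw [hcomm.mul_pow, pow_mul, h.cube, one_pow, one_mul, ← map_pow, mul_comm 3, pow_mul,
      inv_pow, pow_orderOf_eq_one, inv_one, one_pow, map_one])
    (fun d hd hdσ w hw => by
      rw [happ, happ, map_mul, map_mul, map_inv, hdσ]
      have hcd : Commute c⁻¹ d := (h.comm c d hcσ hdσ).inv_left
      calc c⁻¹ * (d * σ w * d⁻¹) * c = (c⁻¹ * d) * σ w * (c⁻¹ * d)⁻¹ := by group
        _ = (d * c⁻¹) * σ w * (d * c⁻¹)⁻¹ := by rw [hcd.eq]
        _ = d * (c⁻¹ * σ w * c) * d⁻¹ := by group)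
    hz hz1 (by rw [happ, ← he]; group)
  have hσc : ∀ y ∈ centInv (S : Subgroup K), σ y = c * y * c⁻¹ := by
    intro y hy
    have h1 := hall y hy
    rw [happ] at h1
    calc σ y = c * (c⁻¹ * σ y * c) * c⁻¹ := by group
      _ = c * y * c⁻¹ := by rw [h1]
  have h3 : (c ^ 3) * z * (c ^ 3)⁻¹ = z := by
    have h1 := hσc z hz
    have h2 := hσc _ (conj_mem_centInv hc hz)
    have h4 := hσc _ (conj_mem_centInv hc (conj_mem_centInv hc hz))
    conv_rhs => rw [← h.cube_apply z, h1, h2, h4]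
    rw [pow_succ, pow_two]; group
  have hcz : c * z * c⁻¹ = z := by
    have hcop : Nat.Coprime 3 (orderOf c) := Nat.prime_three.coprime_iff_not_dvd.mpr
      fun hd => h.three (hd.trans (orderOf_dvd_natCard c))
    obtain ⟨a, ha⟩ := exists_pow_eq_self_of_coprime hcop
    have h5 : Commute (c ^ 3) z := by
      rw [mul_inv_eq_iff_eq_mul] at h3; exact h3
    have h6 := h5.pow_left a
    rw [ha] at h6
    rw [h6.eq, mul_inv_cancel_right]
  exact hz1 (h.eq_one_of_fixed_mem S hz.1 (by rw [hσc z hz, hcz]))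

end Cfsg.Agent.H35.Collins
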