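import Cfsg.Agent.H35.SFourControl.Main
import Cfsg.Agent.H35.Constrained
import Cfsg.Agent.H61.Fusion
import Cfsg.Agent.H20.Basic
import Cfsg.Agent.S1932

/-!
In a group of order prime to three whose Sylow 2-subgroups have class at most two, the normaliser
of the Thompson subgroup controls strong fusion.
-/

set_option autoImplicit false

namespace Cfsg.Agent.H35.Collins

open Subgroup
open scoped commutatorElement

universe u

variable {G : Type u} [Group G] [Finite G]

/-- Class at most two is inherited by the Sylow 2-subgroups of sections. -/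
theorem class_two_of_sect (S : Sylow 2 G) (hcl : ⁅⁅(S : Subgroup G), (S : Subgroup G)⁆, (S : Subgroup G)⁆ = ⊥)
    {X : Type u} [Group X] [Finite X] (hX : H61.Sect X G) (T : Sylow 2 X) :
    ⁅⁅(T : Subgroup X), (T : Subgroup X)⁆, (T : Subgroup X)⁆ = ⊥ := by
  haveI := Fact.mk Nat.prime_two
  obtain ⟨H, f, hf⟩ := hX
  obtain ⟨P⟩ : Nonempty (Sylow 2 H) := inferInstance
  obtain ⟨x, hx⟩ := MulAction.exists_smul_eq X (P.mapSurjective hf) T
  obtain ⟨h, rfl⟩ := hf x
  -- a Sylow subgroup of `H` mapping onto `T`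
  set Q : Subgroup H := ((h • P : Sylow 2 H) : Subgroup H) with hQ
  have hQT : Q.map f = (T : Subgroup X) := by
    rw [← hx, hQ, Sylow.coe_subgroup_smul, Sylow.coe_subgroup_smul, Sylow.coe_mapSurjective]
    ext y
    rw [mem_map, H20.mem_conj_smul]
    constructor
    · rintro ⟨z, hz, rfl⟩
      exact ⟨h⁻¹ * z * h, H20.mem_conj_smul.mp hz, by simp [mul_assoc]⟩
    · rintro ⟨z, hz, e⟩
      refine ⟨h * z * h⁻¹, H20.mem_conj_smul.mpr (by
        rw [show h⁻¹ * (h * z * h⁻¹) * h = z by group]; exact hz), ?_⟩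
      simp only [map_mul, map_inv, e]; group
  obtain ⟨g, hg⟩ := ((h • P : Sylow 2 H).2.map H.subtype).exists_le_sylow
  obtain ⟨c, hc⟩ := MulAction.exists_smul_eq G S g
  have hle : Q.map H.subtype ≤ ((S : Subgroup G)).map (MulAut.conj c).toMonoidHom := by
    refine hg.trans (le_of_eq ?_)
    rw [← hc, Sylow.coe_subgroup_smul, Subgroup.pointwise_smul_def]
    rfl
  have hQ0 : ⁅⁅Q, Q⁆, Q⁆ = ⊥ := by
    refine (map_eq_bot_iff_of_injective _ H.subtype_injective).mp ?_
    rw [map_commutator, map_commutator]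
    refine le_bot_iff.mp ((commutator_mono (commutator_mono hle hle) hle).trans ?_)
    rw [← map_commutator, ← map_commutator, hcl, Subgroup.map_bot]
  rw [← hQT, ← map_commutator, ← map_commutator, hQ0, Subgroup.map_bot]

/-- A group of order prime to three involves no symmetric group of degree four. -/
theorem not_involves_four (h3 : ¬ 3 ∣ Nat.card G) : ¬ Cfsg.Involves (Equiv.Perm (Fin 4)) G := by
  rintro ⟨K, R, hn, ⟨e⟩⟩
  refine h3 (Dvd.dvd.trans ?_ (K.card_subgroup_dvd_card))
  refine Dvd.dvd.trans ?_ (card_quotient_dvd_card (R.subgroupOf K))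
  rw [Nat.card_congr e.toEquiv, Nat.card_perm, Nat.card_fin]
  decide

/-- **Control of fusion** by the normaliser of the Thompson subgroup. -/
theorem thompson_controls (h3 : ¬ 3 ∣ Nat.card G) (S : Sylow 2 G)
    (hcl : ⁅⁅(S : Subgroup G), (S : Subgroup G)⁆, (S : Subgroup G)⁆ = ⊥) {A : Set G}
    (hA : A ⊆ ((S : Subgroup G) : Set G)) {g : G} (hg : ∀ a ∈ A, g * a * g⁻¹ ∈ (S : Subgroup G)) :
    ∃ n ∈ normalizer (Cfsg.thompsonSubgroupOf 2 (S : Subgroup G) : Set G),
      ∀ a ∈ A, n * a * n⁻¹ = g * a * g⁻¹ := by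
  haveI := Fact.mk Nat.prime_two
  set W : ∀ (Q : Type u) [Group Q], Subgroup Q := fun Q _ => Cfsg.thompsonSubgroup 2 Q
  have hW : Cfsg.IsCharPFunctor.{u} 2 W := SFourControl.isCharPFunctor_thompson
  have h𝓦 : ∀ V ∈ ({W} : Set (∀ (Q : Type u) [Group Q], Subgroup Q)),
      Cfsg.IsCharPFunctor.{u} 2 V := by
    rintro V rfl; exact hW
  have hOK : H61.FusionOK 2 {W} G := by
    refine H61.fusion_of_pairs h𝓦 (fun K R hR hC => ?_) H61.sect_refl
    refine H61.fusionOK_of_normal rfl fun T => ?_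
    have h3' : ¬ 3 ∣ Nat.card (↥K ⧸ R.subgroupOf K) := fun hd =>
      h3 (hd.trans ((card_quotient_dvd_card _).trans K.card_subgroup_dvd_card))
    have hcore : Cfsg.pPrimeCore 2 (↥K ⧸ R.subgroupOf K) = ⊥ := by
      set O := Cfsg.pPrimeCore 2 (↥K ⧸ R.subgroupOf K)
      haveI : O.Normal := H19.pPrimeCore_normal 2 _
      haveI := H19.pCore_normal 2 (↥K ⧸ R.subgroupOf K)
      have hcop := H19.inf_eq_bot_of_isPGroup_coprime (H19.pCore_isPGroup 2)
        (H19.pPrimeCore_coprime (G := ↥K ⧸ R.subgroupOf K) 2)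
      have hle : O ≤ centralizer (Cfsg.pCore 2 (↥K ⧸ R.subgroupOf K) : Set _) := fun x hx =>
        mem_centralizer_iff.mpr fun y hy => ((commutatorElement_eq_one_iff_mul_comm).mp
          (mem_bot.mp (hcop ▸ commutator_le_inf (Cfsg.pCore 2 (↥K ⧸ R.subgroupOf K)) O
            (commutator_mem_commutator hy hx))))
      exact le_bot_iff.mp (hcop ▸ le_inf (hle.trans hC) le_rfl)
    have hcon : Cfsg.IsPConstrained 2 (↥K ⧸ R.subgroupOf K) :=
      (H35.isPConstrained_iff_of_surjective (MonoidHom.id _) Function.surjective_id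
        (by rw [(MonoidHom.ker_eq_bot_iff _).2 Function.injective_id, card_bot]
            exact Nat.coprime_one_left 2) hcore).2 hC
    have hT := class_two_of_sect S hcl (H61.sect_of_pair K R) T
    have h1 := Cfsg.Agent.S1932.result hcon (not_involves_four h3') T (by
      rw [Subgroup.lowerCentralSeries_succ, Subgroup.lowerCentralSeries_succ,
        Subgroup.lowerCentralSeries_zero]
      exact hT)
    rw [hcore, sup_bot_eq] at h1
    exact normalizer_eq_top_iff.mp h1
  obtain ⟨T, hT1, hT2⟩ := H61.controlsStrongFusion_of_fusionOK hW hOK S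
  have h' : H61.FusAll {Cfsg.inducedFunctor (G := G) W} (S : Subgroup G) ⊤ := by
    have := hOK S
    rwa [H61.Wset, Set.image_singleton] at this
  obtain ⟨x, hx, e⟩ := H61.controls_of_fusAll (H61.isConjugacyFunctor_induced hW)
    (H61.sylowIn_of_le S le_top) h' (Subgroup.mem_top g) hA (Set.image_subset_iff.mpr hg)
  exact ⟨x, hx.2, fun a ha => e a ha⟩

end Cfsg.Agent.H35.Collins
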