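import Cfsg.Agent.H35.Collins.CentreCard
import Cfsg.Agent.H28.ZStar
import Cfsg.Agent.H35.SigFunTwo
import Cfsg.Agent.H20.FixedPoints
import Cfsg.Agent.S0205

/-!
A proper subgroup containing the centralisers of all central involutions of the invariant Sylow
2-subgroup and the normaliser of their group, which controls them.
-/

set_option autoImplicit false

namespace Cfsg.Agent.H35.Collins

open Subgroup
open scoped Pointwise

universe u

variable {K : Type u} [Group K] [Finite K] {σ : MulAut K}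

/-- The odd core of a centraliser, as a subgroup of the whole group. -/
def oddSignal (a : K) : Subgroup K :=
  (Cfsg.pPrimeCore 2 (centralizer ({a} : Set K))).map (centralizer ({a} : Set K)).subtype

theorem oddSignal_le (a : K) : oddSignal a ≤ centralizer ({a} : Set K) := map_subtype_le _

theorem odd_card_oddSignal (a : K) : Odd (Nat.card (oddSignal a)) := by
  haveI := Fact.mk Nat.prime_two
  rw [oddSignal, card_map_of_injective (centralizer ({a} : Set K)).subtype_injective]
  exact Nat.coprime_two_right.mp (H19.pPrimeCore_coprime 2)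

theorem le_normalizer_oddSignal (a : K) :
    centralizer ({a} : Set K) ≤ normalizer (oddSignal a : Set K) := by
  intro g hg
  rw [mem_normalizer_iff]
  intro x
  haveI := H19.pPrimeCore_normal 2 (centralizer ({a} : Set K))
  constructor
  · rintro ⟨y, hy, rfl⟩
    exact ⟨⟨g, hg⟩ * y * ⟨g, hg⟩⁻¹, Normal.conj_mem inferInstance y hy ⟨g, hg⟩, rfl⟩
  · rintro ⟨y, hy, hyx⟩
    refine ⟨⟨g, hg⟩⁻¹ * y * (⟨g, hg⟩⁻¹)⁻¹, Normal.conj_mem inferInstance y hy _, ?_⟩
    simp only [coe_subtype] at hyx
    simp [hyx, mul_assoc]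

theorem le_oddSignal {a : K} {T : Subgroup K} (hT : T ≤ centralizer ({a} : Set K))
    (hTn : centralizer ({a} : Set K) ≤ normalizer (T : Set K)) (hTo : Odd (Nat.card T)) :
    T ≤ oddSignal a := by
  intro x hx
  haveI : (T.subgroupOf (centralizer ({a} : Set K))).Normal := normal_subgroupOf_of_le_normalizer hTn
  refine ⟨⟨x, hT hx⟩, H19.le_pPrimeCore inferInstance ?_ (mem_subgroupOf.mpr hx), rfl⟩
  rw [Nat.card_congr (subgroupOfEquivOfLe hT).toEquiv]
  exact Nat.coprime_two_right.mpr hTo

theorem le_centralizer_centInv {S : Subgroup K} {a : K} (ha : a ∈ centInv S) :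
    S ≤ centralizer ({a} : Set K) := fun p hp =>
  mem_centralizer_singleton_iff.mpr (ha.2.1 p hp).eq.symm

/-- The centraliser of a central involution is its odd core times the centraliser of all. -/
theorem Simp.centralizer_eq [IsSimpleGroup K] (hna : ¬ ∀ a b : K, a * b = b * a) (S : Sylow 2 K)
    (h : Simp σ (S : Subgroup K)) {a : K} (ha : a ∈ centInv (S : Subgroup K)) (ha1 : a ≠ 1)
    {g : K} (hg : g ∈ centralizer ({a} : Set K)) :
    ∃ o ∈ oddSignal a, ∃ y ∈ centralizer (centInv (S : Subgroup K) : Set K), g = o * y := by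
  haveI := Fact.mk Nat.prime_two
  let TC : Sylow 2 (centralizer ({a} : Set K)) := S.subtype (le_centralizer_centInv ha)
  have hcomm : ∀ z ∈ centInv (S : Subgroup K), ∀ y ∈ centralizer ({a} : Set K), z * y * z⁻¹ * y⁻¹ ∈ oddSignal a := by
    intro z hz y hy
    by_cases hz1 : z = 1
    · subst hz1; simpa using one_mem (oddSignal a)
    have hzC := (le_centralizer_centInv ha hz.1)
    have hord : orderOf (⟨z, hzC⟩ : centralizer ({a} : Set K)) = 2 :=
      orderOf_eq_prime (Subtype.ext (by simpa [pow_two] using hz.2.2))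
        fun e => hz1 (congrArg Subtype.val e)
    have hisol := H28.isIsolatedInvolution_of_sylow TC hord (by
      intro x hx
      have hxS : (x : K) * z * (x : K)⁻¹ ∈ (S : Subgroup K) := by
        have h' : (x * ⟨z, _⟩ * x⁻¹ : centralizer ({a} : Set K)) ∈
            ((TC : Sylow 2 (centralizer ({a} : Set K))) : Subgroup _) := hx
        rw [Sylow.coe_subtype, mem_subgroupOf] at h'
        simpa using h'
      obtain ⟨m, hm, hmA⟩ := h.fus {z, a} x
        (by intro t ht; rcases ht with rfl | rfl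
            · exact hz.1
            · exact ha.1)
        (by intro t ht; rcases ht with rfl | rfl
            · exact hxS
            · rw [mem_centralizer_singleton_iff.mp x.2, mul_inv_cancel_right]; exact ha.1)
      obtain ⟨c, hcN, hcσ, hc⟩ := h.act m hm
      have hca : c * a * c⁻¹ = a := by
        rw [← hc a (ha.1) ha.2.1, hmA a (Or.inr rfl), mem_centralizer_singleton_iff.mp x.2,
          mul_inv_cancel_right]
      refine Subtype.ext ?_
      show (x : K) * z * (x : K)⁻¹ = z
      rw [← hmA z (Or.inl rfl), hc z (hz.1) hz.2.1]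
      exact h.semiregular hna S hcN hcσ ha ha1 hca z hz)
    exact ⟨_, H28.zStar hisol ⟨y, hy⟩, rfl⟩
  set Zg := (centInv (S : Subgroup K)).map (MulAut.conj g).toMonoidHom with hZg
  have hle : Zg ≤ oddSignal a ⊔ centInv (S : Subgroup K) := by
    rintro _ ⟨z, hz, rfl⟩
    show g * z * g⁻¹ ∈ oddSignal a ⊔ centInv (S : Subgroup K)
    rw [show g * z * g⁻¹ = (z * g * z⁻¹ * g⁻¹)⁻¹ * z by group]
    exact mul_mem_sup (inv_mem (hcomm z hz g hg)) hz
  obtain ⟨j, hj⟩ := IsPGroup.iff_card.mp (S.2.to_le (centInv_le (S : Subgroup K)))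
  have hcop : (Nat.card (centInv (S : Subgroup K))).Coprime (Nat.card (oddSignal a)) :=
    hj ▸ (Nat.coprime_two_left.mpr (odd_card_oddSignal a)).pow_left j
  obtain ⟨n, hn, hnZ⟩ := H20.exists_conj_eq_of_coprime ((((centInv_le (S : Subgroup K)).trans (le_centralizer_centInv ha))).trans (le_normalizer_oddSignal a)) hcop
    (Or.inr (Cfsg.Agent.S0205.result (odd_card_oddSignal a))) hle (card_map_of_injective (MulAut.conj g).injective)
  refine ⟨n, hn, n⁻¹ * g, mem_centralizer_iff.mpr fun z hz => ?_, by group⟩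
  have h1 : g * z * g⁻¹ ∈ MulAut.conj n • centInv (S : Subgroup K) := by rw [hnZ]; exact ⟨z, hz, rfl⟩
  rw [H20.mem_conj_smul] at h1
  have hng : n⁻¹ * g ∈ centralizer ({a} : Set K) := mul_mem (inv_mem (oddSignal_le a hn)) hg
  have h2 : n⁻¹ * g * z * (n⁻¹ * g)⁻¹ ∈ centInv (S : Subgroup K) := by simpa [mul_assoc] using h1
  have h3 := hcomm z hz _ hng
  have h4 : z * (n⁻¹ * g) * z⁻¹ * (n⁻¹ * g)⁻¹ ∈ centInv (S : Subgroup K) := by
    have := mul_mem hz (inv_mem h2)
    rw [show z * (n⁻¹ * g) * z⁻¹ * (n⁻¹ * g)⁻¹ = z * (n⁻¹ * g * z * (n⁻¹ * g)⁻¹)⁻¹ by group]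
    exact this
  have h5 : z * (n⁻¹ * g) * z⁻¹ * (n⁻¹ * g)⁻¹ = 1 := by
    have := Subgroup.inf_eq_bot_of_coprime (H := centInv (S : Subgroup K)) (K := oddSignal a) hcop
    exact mem_bot.mp (this ▸ ⟨h4, h3⟩)
  rw [mul_inv_eq_one, mul_inv_eq_iff_eq_mul] at h5
  exact h5

/-- A proper subgroup containing the centralisers of the central involutions and the normaliser of
their group. -/
theorem Simp.exists_overgroup [IsSimpleGroup K] (hna : ¬ ∀ a b : K, a * b = b * a) (S : Sylow 2 K)
    (h : Simp σ (S : Subgroup K)) {u : K} (hu : u ∈ centInv (S : Subgroup K)) (hu1 : u ≠ 1) :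
    ∃ M : Subgroup K, M ≠ ⊤ ∧ (S : Subgroup K) ≤ M ∧
      (∀ a ∈ centInv (S : Subgroup K), a ≠ 1 → centralizer ({a} : Set K) ≤ M) ∧
      normalizer (centInv (S : Subgroup K) : Set K) ≤ M := by
  haveI := Fact.mk Nat.prime_two
  classical
  set Z := centInv (S : Subgroup K) with hZdef
  have hZS : Z ≤ (S : Subgroup K) := centInv_le _
  have hZab : ∀ a ∈ Z, ∀ b ∈ Z, Commute a b := fun a ha b hb => centInv_commute ha hb
  have hNZ : ∀ n ∈ normalizer ((S : Subgroup K) : Set K), ∀ z ∈ Z, n * z * n⁻¹ ∈ Z :=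
    fun n hn z hz => conj_mem_centInv hn hz
  set CZ := centralizer (Z : Set K) with hCZ
  have hCZle : ∀ a ∈ Z, CZ ≤ centralizer ({a} : Set K) := fun a ha g hg =>
    mem_centralizer_singleton_iff.mpr (mem_centralizer_iff.mp hg a ha).symm
  have hZC : ∀ a ∈ Z, Z ≤ centralizer ({a} : Set K) := fun a ha =>
    hZS.trans (le_centralizer_centInv ha)
  have hθC := oddSignal_le (K := K)
  have hθodd := odd_card_oddSignal (K := K)
  have hθn := le_normalizer_oddSignal (K := K)
  have hstruct : ∀ a ∈ Z, a ≠ 1 → ∀ g ∈ centralizer ({a} : Set K),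
      ∃ o ∈ oddSignal a, ∃ y ∈ CZ, g = o * y := fun a ha ha1 g hg => h.centralizer_eq hna S ha ha1 hg
  have hZ8 := h.eight_le hna S hu hu1
  -- the signalizer functor
  have hbal : ∀ a ∈ Z, a ≠ 1 → ∀ b ∈ Z, b ≠ 1 → oddSignal a ⊓ centralizer ({b} : Set K) ≤ oddSignal b := by
    intro a ha ha1 b hb hb1
    set M0 := oddSignal a ⊓ centralizer ({b} : Set K) with hM0
    set C := centralizer ({b} : Set K)
    haveI hn : ((oddSignal b).subgroupOf C).Normal := normal_subgroupOf_of_le_normalizer (hθn b)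
    have hCT : C ≤ normalizer ((oddSignal b ⊔ M0 : Subgroup K) : Set K) := by
      intro g hg
      obtain ⟨o, ho, y, hy, rfl⟩ := hstruct b hb hb1 g hg
      refine mul_mem (le_normalizer (mem_sup_left ho)) ?_
      have h1 : y ∈ normalizer (oddSignal b : Set K) := hθn b (hCZle b hb hy)
      have h2 : y ∈ normalizer (M0 : Set K) := by
        have := H20.le_normalizer_inf (A := CZ) (X := oddSignal a) (Y := C)
          ((hCZle a ha).trans (hθn a)) ((hCZle b hb).trans le_normalizer)
        exact this hy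
      rw [mem_normalizer_iff_map_conj_eq] at h1 h2 ⊢
      rw [Subgroup.map_sup]
      exact congrArg₂ (· ⊔ ·) h1 h2
    refine le_sup_right.trans (le_oddSignal (sup_le (hθC b) inf_le_right) hCT ?_)
    have hle2 : M0 ≤ normalizer (oddSignal b : Set K) := inf_le_right.trans (hθn b)
    rw [← Nat.not_even_iff_odd, even_iff_two_dvd]
    intro h2
    have hd : Nat.card (oddSignal b ⊔ M0 : Subgroup K) ∣ Nat.card (oddSignal b) * Nat.card M0 := by
      have h1 := H19.card_sup_dvd ((oddSignal b).subgroupOf C) (M0.subgroupOf C)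
      rw [← subgroupOf_sup (hθC b) inf_le_right,
        Nat.card_congr (subgroupOfEquivOfLe (sup_le (hθC b) inf_le_right)).toEquiv,
        Nat.card_congr (subgroupOfEquivOfLe (hθC b)).toEquiv,
        Nat.card_congr (subgroupOfEquivOfLe (inf_le_right : M0 ≤ C)).toEquiv] at h1
      exact h1
    rcases (Nat.prime_two.dvd_mul).mp (h2.trans hd) with h3 | h3
    · exact absurd (hθodd b) (Nat.not_odd_iff_even.mpr (even_iff_two_dvd.mpr h3))
    · exact absurd ((hθodd a).of_dvd_nat (card_dvd_of_le inf_le_left))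
        (Nat.not_odd_iff_even.mpr (even_iff_two_dvd.mpr h3))
  have hθsig : Cfsg.IsSolvableSignalizerFunctor 2 Z oddSignal := by
    refine ⟨⟨fun a _ _ => hθC a, fun a _ _ => ?_, fun a ha _ b hb x hx => ?_, hbal⟩,
      fun a _ _ => Cfsg.Agent.S0205.result (hθodd a)⟩
    · exact fun hd => Nat.not_even_iff_odd.mpr (hθodd a) (even_iff_two_dvd.mpr hd)
    · exact (mem_normalizer_iff.mp (hθn a (hZC a ha hb)) x).mp hx
  have hZel : Cfsg.IsElementaryAbelian 2 Z :=
    ⟨⟨⟨fun a b => Subtype.ext (hZab a a.2 b b.2).eq⟩⟩, fun a ha => by rw [pow_two]; exact ha.2.2⟩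
  obtain ⟨hWfam, -, -⟩ := H35.SigFun.solvable_signalizer_functor_two hZel hZ8 hθsig
  set W := Cfsg.signalizerClosure Z oddSignal with hW
  have hθW : ∀ a ∈ Z, a ≠ 1 → oddSignal a ≤ W := fun a ha ha1 =>
    le_iSup (fun b : {b : K // b ∈ Z ∧ b ≠ 1} => oddSignal (b : K)) ⟨a, ha, ha1⟩
  -- `N(Z)` normalises the closure
  have hNW : normalizer (Z : Set K) ≤ normalizer (W : Set K) := by
    intro g hg
    rw [mem_normalizer_iff_map_conj_eq]
    refine eq_of_le_of_card_ge ?_ (le_of_eq (card_map_of_injective (MulAut.conj g).injective).symm)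
    rw [map_le_iff_le_comap, hW]
    refine iSup_le fun a => ?_
    rw [← map_le_iff_le_comap]
    have hb : g * (a : K) * g⁻¹ ∈ Z := (mem_normalizer_iff.mp hg _).mp a.2.1
    have hb1 : g * (a : K) * g⁻¹ ≠ 1 := fun e => a.2.2 (by rwa [conj_eq_one_iff] at e)
    refine le_trans ?_ (hθW _ hb hb1)
    have hconjC : (centralizer ({(a : K)} : Set K)).map (MulAut.conj g).toMonoidHom =
        centralizer ({g * (a : K) * g⁻¹} : Set K) := by
      ext x
      rw [Subgroup.mem_map, mem_centralizer_singleton_iff]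
      constructor
      · rintro ⟨y, hy, rfl⟩
        rw [mem_centralizer_singleton_iff] at hy
        simp only [MulEquiv.coe_toMonoidHom, MulAut.conj_apply]
        calc g * y * g⁻¹ * (g * a * g⁻¹) = g * (y * a) * g⁻¹ := by group
          _ = g * (a * y) * g⁻¹ := by rw [hy]
          _ = g * a * g⁻¹ * (g * y * g⁻¹) := by group
      · intro hx
        refine ⟨g⁻¹ * x * g, mem_centralizer_singleton_iff.mpr ?_, by simp [mul_assoc]⟩
        calc g⁻¹ * x * g * a = g⁻¹ * (x * (g * a * g⁻¹)) * g := by group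
          _ = g⁻¹ * (g * a * g⁻¹ * x) * g := by rw [hx]
          _ = a * (g⁻¹ * x * g) := by group
    refine le_oddSignal (hconjC ▸ map_mono (hθC _)) ?_ ?_
    · rw [← hconjC]
      exact (map_mono (hθn _)).trans (le_normalizer_map _)
    · rw [card_map_of_injective (MulAut.conj g).injective]; exact hθodd _
  have hCZN : CZ ≤ normalizer (Z : Set K) := H20.le_normalizer_of_le_centralizer le_rfl
  have hSN : normalizer ((S : Subgroup K) : Set K) ≤ normalizer (Z : Set K) := by
    intro n hn
    rw [mem_normalizer_iff_map_conj_eq]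
    refine eq_of_le_of_card_ge ?_ (le_of_eq (card_map_of_injective (MulAut.conj n).injective).symm)
    rintro _ ⟨z, hz, rfl⟩
    exact hNZ n hn z hz
  -- the subgroup `M`
  obtain ⟨M, hMtop, hCM, hNM⟩ : ∃ M : Subgroup K, M ≠ ⊤ ∧
      (∀ a ∈ Z, a ≠ 1 → centralizer ({a} : Set K) ≤ M) ∧ normalizer (Z : Set K) ≤ M := by
    by_cases hW1 : W = ⊥
    · refine ⟨normalizer (Z : Set K), ?_, ?_, le_rfl⟩
      · intro e
        rcases (normalizer_eq_top_iff.mp e).eq_bot_or_eq_top with h1 | h1
        · exact hu1 (mem_bot.mp (h1 ▸ hu))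
        · exact hna fun a b => (hZab a (h1 ▸ mem_top a) b (h1 ▸ mem_top b)).eq
      · intro a ha ha1 g hg
        obtain ⟨o, ho, y, hy, rfl⟩ := hstruct a ha ha1 g hg
        have ho1 : o = 1 := mem_bot.mp (hW1 ▸ hθW a ha ha1 ho)
        rw [ho1, one_mul]; exact hCZN hy
    · refine ⟨normalizer (W : Set K), ?_, ?_, hNW⟩
      · intro e
        rcases (normalizer_eq_top_iff.mp e).eq_bot_or_eq_top with h1 | h1
        · exact hW1 h1
        · refine hWfam.2.1 ?_
          rw [h1, card_top]; exact h.two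
      · intro a ha ha1 g hg
        obtain ⟨o, ho, y, hy, rfl⟩ := hstruct a ha ha1 g hg
        exact mul_mem (le_normalizer (hθW a ha ha1 ho)) (hNW (hCZN hy))
  exact ⟨M, hMtop, le_normalizer.trans (hSN.trans hNM), hCM, hNM⟩

end Cfsg.Agent.H35.Collins
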