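import Cfsg.Agent.H35.Collins.Embedded
import Cfsg.Agent.H35.Collins.Overgroup

/-!
A simple group of order prime to three has no automorphism of order three with abelian fixed
points of odd order, once fusion in an invariant Sylow 2-subgroup is controlled by its normaliser
and the latter acts on the centre through fixed points of the automorphism.
-/

set_option autoImplicit false

namespace Cfsg.Agent.H35.Collins

open Subgroup

universe u

variable {K : Type u} [Group K] [Finite K] {σ : MulAut K}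

/-- The simple case is impossible. -/
theorem false_of_simple [IsSimpleGroup K] (hna : ¬ ∀ a b : K, a * b = b * a) (S : Sylow 2 K)
    (h : Simp σ (S : Subgroup K)) : False := by
  haveI := Fact.mk Nat.prime_two
  classical
  obtain ⟨u, hu, hu1⟩ := h.exists_centInv_ne_one S
  obtain ⟨M, hMtop, hSM, hCM, hNM⟩ := h.exists_overgroup hna S hu hu1
  set Z := centInv (S : Subgroup K) with hZdef
  have hZS : Z ≤ (S : Subgroup K) := centInv_le _
  have hNZ : ∀ n ∈ normalizer ((S : Subgroup K) : Set K), ∀ z ∈ Z, n * z * n⁻¹ ∈ Z :=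
    fun n hn z hz => conj_mem_centInv hn hz
  have hSN : normalizer ((S : Subgroup K) : Set K) ≤ normalizer (Z : Set K) := by
    intro n hn
    rw [mem_normalizer_iff_map_conj_eq]
    refine eq_of_le_of_card_ge ?_ (le_of_eq (card_map_of_injective (MulAut.conj n).injective).symm)
    rintro _ ⟨z, hz, rfl⟩
    exact hNZ n hn z hz
  have hσu : σ u ∈ Z := h.map_mem_centInv hu
  have hσu1 : σ u ≠ 1 := (h.image_ne hu hu1).2.1
  have hcontrol : ∀ z ∈ Z, z ≠ 1 → ∀ g : K, g * z * g⁻¹ ∈ M → g ∈ M := by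
    intro z hz hz1 g hg
    have hp : IsPGroup 2 (zpowers (⟨g * z * g⁻¹, hg⟩ : M)) := by
      refine IsPGroup.of_card (n := 1) ?_
      rw [Nat.card_zpowers, pow_one]
      refine orderOf_eq_prime (Subtype.ext ?_) fun e => hz1 ?_
      · rw [pow_two]
        show g * z * g⁻¹ * (g * z * g⁻¹) = 1
        rw [show g * z * g⁻¹ * (g * z * g⁻¹) = g * (z * z) * g⁻¹ by group, hz.2.2]; group
      · have := congrArg Subtype.val e
        rwa [OneMemClass.coe_one, conj_eq_one_iff] at this
    obtain ⟨S', hS'⟩ := hp.exists_le_sylow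
    obtain ⟨m, hm⟩ := MulAction.exists_smul_eq M S' (S.subtype hSM)
    have h1 : m * ⟨g * z * g⁻¹, hg⟩ * m⁻¹ ∈ ((S.subtype hSM : Sylow 2 M) : Subgroup M) := by
      rw [← hm, Sylow.coe_subgroup_smul, H20.mem_conj_smul]
      simpa [mul_assoc] using hS' (mem_zpowers _)
    rw [Sylow.coe_subtype, mem_subgroupOf] at h1
    have h2 : ((m : K) * g) * z * ((m : K) * g)⁻¹ ∈ (S : Subgroup K) := by
      simpa [mul_assoc] using h1
    obtain ⟨n, hn, hnz⟩ := h.fus {z} ((m : K) * g) (Set.singleton_subset_iff.mpr (hZS hz))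
      (fun a ha => by rw [Set.mem_singleton_iff.mp ha]; exact h2)
    have hC : n⁻¹ * ((m : K) * g) ∈ centralizer ({z} : Set K) := by
      rw [mem_centralizer_singleton_iff]
      have h3 : ((m : K) * g) * z * ((m : K) * g)⁻¹ = n * z * n⁻¹ := (hnz z rfl).symm
      calc n⁻¹ * ((m : K) * g) * z = n⁻¹ * (((m : K) * g) * z * ((m : K) * g)⁻¹) * ((m : K) * g) := by
            group
        _ = z * (n⁻¹ * ((m : K) * g)) := by rw [h3]; group
    rw [show g = (m : K)⁻¹ * (n * (n⁻¹ * ((m : K) * g))) by group]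
    exact mul_mem (inv_mem m.2) (mul_mem (hNM (hSN hn)) (hCM z hz hz1 hC))
  -- conclusion
  have hne : ∀ g : K, g * u * g⁻¹ ≠ σ u := by
    intro g hg
    obtain ⟨m, hm, hmu⟩ := h.fus {u} g (Set.singleton_subset_iff.mpr (hZS hu))
      (fun a ha => by rw [Set.mem_singleton_iff.mp ha, hg]; exact hZS hσu)
    obtain ⟨c, hcN, hcσ, hc⟩ := h.act m hm
    refine h.conj_ne hna S hcN hcσ hu hu1 ?_
    rw [← hc u (hZS hu) hu.2.1, hmu u rfl, hg]
  have hall := conj_mem_of_not_conj (Nat.card K) rfl S Z M hZS hSM (fun z hz => hz.2.2)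
    (fun z hz => hz.2.1)
    (fun z hz g hg => by
      obtain ⟨m, hm, hmz⟩ := h.fus {z} g (Set.singleton_subset_iff.mpr (hZS hz))
        (fun a ha => by rw [Set.mem_singleton_iff.mp ha]; exact hg)
      rw [← hmz z rfl]; exact hNZ m hm z hz)
    hcontrol u hu hu1 (σ u) hσu hσu1 hne
  refine hMtop (top_le_iff.mp ?_)
  have hncl : normalClosure ({σ u} : Set K) = ⊤ := by
    rcases (normalClosure_normal (s := ({σ u} : Set K))).eq_bot_or_eq_top with h1 | h1
    · exact absurd (mem_bot.mp (h1 ▸ subset_normalClosure (Set.mem_singleton _))) hσu1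
    · exact h1
  rw [← hncl]
  refine (closure_le M).mpr fun y hy => ?_
  obtain ⟨a, ha, hay⟩ := Group.mem_conjugatesOfSet_iff.mp hy
  rw [Set.mem_singleton_iff] at ha
  subst ha
  obtain ⟨g, rfl⟩ := isConj_iff.mp hay
  exact hall g

end Cfsg.Agent.H35.Collins
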