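import Cfsg.Agent.H35.Collins.Transfer
import Cfsg.Agent.H35.Collins.Reduction
import Cfsg.Agent.H35.Collins.Fusion
import Cfsg.Agent.H35.Collins.Simple
import Cfsg.Agent.H34.Thompson
import Cfsg.Agent.H23.Thompson
import Cfsg.Agent.S3779
import Cfsg.Agent.S0205

/-!
A group of order prime to three with an automorphism of order three whose fixed points form an
abelian group of odd order is solvable.
-/

set_option autoImplicit false

namespace Cfsg.Agent.H35.Collins

open Subgroup
open scoped commutatorElement Pointwise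

universe u

variable {X : Type u} [Group X] [Finite X] {s : X} {G : Subgroup X}

/-- A 2-subgroup invariant under `s` has class at most two. -/
theorem Good.class_two (h : Good s G) {P : Subgroup X} (hPG : P ≤ G) (hP : IsPGroup 2 P)
    (hsP : s ∈ normalizer (P : Set X)) : ⁅⁅P, P⁆, P⁆ = ⊥ := by
  rcases eq_or_ne P ⊥ with rfl | hne
  · rw [eq_bot_iff]
    exact commutator_le.mpr fun a _ b hb => by
      rw [mem_bot] at hb; subst hb; simp
  set α : MulAut P := P.normalizerMonoidHom ⟨s, hsP⟩ with hα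
  have happ : ∀ x : P, ((α x : P) : X) = s * x * s⁻¹ := fun _ => rfl
  have hfpf : ∀ x : P, α x = x → x = 1 := by
    intro x hx
    have h1 : s * x * s⁻¹ = x := by rw [← happ, hx]
    have h2 : (x : X) ∈ P ⊓ centralizer (zpowers s : Set X) :=
      ⟨x.2, mem_centralizer_zpowers.mpr (mul_inv_eq_iff_eq_mul.mp h1)⟩
    rw [h.inf_two hPG hP, mem_bot] at h2
    exact Subtype.ext h2
  have hord : orderOf α = 3 := by
    haveI := Fact.mk Nat.prime_three
    refine orderOf_eq_prime ?_ fun e => ?_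
    · have hs3 : (⟨s, hsP⟩ : normalizer (P : Set X)) ^ 3 = 1 := Subtype.ext (by simpa using h.pow)
      rw [hα, ← map_pow, hs3, map_one]
    · haveI : Nontrivial P := (nontrivial_iff_ne_bot P).mpr hne
      obtain ⟨x, hx⟩ := exists_ne (1 : P)
      exact hx (hfpf x (by rw [e, MulAut.one_apply]))
  have h1 := (Cfsg.Agent.S3779.result Nat.prime_three α hord hfpf).2.1 rfl
  rw [Subgroup.lowerCentralSeries_succ, Subgroup.lowerCentralSeries_succ,
    Subgroup.lowerCentralSeries_zero] at h1
  have h2 := congrArg (Subgroup.map P.subtype) h1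
  rwa [Subgroup.map_commutator, Subgroup.map_commutator, Subgroup.map_bot,
    ← MonoidHom.range_eq_map, range_subtype] at h2

theorem eq_one_of_disjoint {A B : Subgroup X} (hcop : (Nat.card A).Coprime (Nat.card B)) {x : X}
    (hA : x ∈ A) (hB : x ∈ B) : x = 1 :=
  mem_bot.mp (Subgroup.inf_eq_bot_of_coprime hcop ▸ mem_inf.mpr ⟨hA, hB⟩)

/-- Fusion by an element of a proper invariant subgroup containing `P` is realised in `N(P)`. -/
theorem exists_normalizer_conj {H P O L : Subgroup X} (h : Split s H O L) (hPH : P ≤ H)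
    (hP : IsPGroup 2 P) (hPi : Odd (P.relIndex H)) {n : X} (hn : n ∈ H) {A : Set X}
    (hAP : A ⊆ (P : Set X)) (hA : ∀ a ∈ A, n * a * n⁻¹ ∈ P) :
    ∃ m ∈ H, m ∈ normalizer (P : Set X) ∧ ∀ a ∈ A, m * a * m⁻¹ = n * a * n⁻¹ := by
  have hOP := h.sup_eq hPH hP hPi
  have hPO : P ≤ normalizer (O : Set X) := hPH.trans h.normO
  obtain ⟨j, hj⟩ := IsPGroup.iff_card.mp hP
  have hcop : (Nat.card P).Coprime (Nat.card O) :=
    hj ▸ (Nat.coprime_two_left.mpr h.odd).pow_left j
  have hle : P.map (MulAut.conj n).toMonoidHom ≤ O ⊔ P := by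
    rw [hOP, ← mem_normalizer_iff_map_conj_eq.mp (h.normL hn)]
    exact map_mono (hOP ▸ le_sup_right)
  obtain ⟨o, ho, hoP⟩ := H20.exists_conj_eq_of_coprime hPO hcop
    (Or.inr (Cfsg.Agent.S0205.result h.odd)) hle
    (card_map_of_injective (MulAut.conj n).injective)
  have hoH : o ∈ H := h.lG (h.oL ho)
  refine ⟨o⁻¹ * n, mul_mem (inv_mem hoH) hn, ?_, fun a ha => ?_⟩
  · refine H20.mem_normalizer_of_conj_smul_eq ?_
    rw [map_mul, mul_smul, map_inv, inv_smul_eq_iff, hoP]
    rfl
  · have hb := hA a ha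
    have hb' : o⁻¹ * (n * a * n⁻¹) * o ∈ P := by
      have h1 : n * a * n⁻¹ ∈ MulAut.conj o • P := by
        rw [hoP]
        exact ⟨a, hAP ha, rfl⟩
      rwa [H20.mem_conj_smul] at h1
    have h2 : o⁻¹ * (n * a * n⁻¹) * o * (n * a * n⁻¹)⁻¹ = 1 := by
      refine eq_one_of_disjoint hcop (mul_mem hb' (inv_mem hb)) ?_
      rw [mul_assoc, mul_assoc, ← mul_assoc (n * a * n⁻¹) o]
      exact mul_mem (inv_mem ho) ((mem_normalizer_iff.mp (hPO hb) o).mp ho)
    rw [mul_inv_eq_one] at h2
    calc o⁻¹ * n * a * (o⁻¹ * n)⁻¹ = o⁻¹ * (n * a * n⁻¹) * o := by group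
      _ = n * a * n⁻¹ := h2

/-- The normaliser of an invariant Sylow 2-subgroup acts on its centre through fixed points. -/
theorem exists_fixed_act {H P O L : Subgroup X} (h : Split s H O L) (hPH : P ≤ H)
    (hP : IsPGroup 2 P) (hPi : Odd (P.relIndex H)) (hHP : H ≤ normalizer (P : Set X)) {n : X}
    (hn : n ∈ H) : ∃ c ∈ H, Commute s c ∧
      ∀ z ∈ P, (∀ p ∈ P, Commute z p) → n * z * n⁻¹ = c * z * c⁻¹ := by
  have hOP := h.sup_eq hPH hP hPi
  obtain ⟨j, hj⟩ := IsPGroup.iff_card.mp hP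
  have hcop : (Nat.card P).Coprime (Nat.card O) :=
    hj ▸ (Nat.coprime_two_left.mpr h.odd).pow_left j
  obtain ⟨l, hl, c, hc, hsc, rfl⟩ := h.cover n hn
  refine ⟨c, hc, hsc, fun z hz hzc => ?_⟩
  have hw : c * z * c⁻¹ ∈ P := (mem_normalizer_iff.mp (hHP hc) z).mp hz
  have hwc : ∀ p ∈ P, Commute (c * z * c⁻¹) p := by
    intro p hp
    have h1 := (hzc _ ((mem_normalizer_iff''.mp (hHP hc) p).mp hp)).map (MulAut.conj c).toMonoidHom
    simpa [mul_assoc] using h1
  have hLc : L ≤ centralizer ({c * z * c⁻¹} : Set X) := by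
    rw [← hOP]
    refine sup_le (fun o ho => ?_) (fun p hp => mem_centralizer_singleton_iff.mpr (hwc p hp).eq.symm)
    rw [mem_centralizer_singleton_iff]
    set w := c * z * c⁻¹
    have h2 : o * w * o⁻¹ * w⁻¹ = 1 := by
      refine eq_one_of_disjoint hcop
        (mul_mem ((mem_normalizer_iff.mp (hHP (h.lG (h.oL ho))) w).mp hw) (inv_mem hw)) ?_
      rw [mul_assoc, mul_assoc, ← mul_assoc w]
      exact mul_mem ho ((mem_normalizer_iff.mp ((hPH.trans h.normO) hw) o⁻¹).mp (inv_mem ho))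
    rw [mul_inv_eq_one, mul_inv_eq_iff_eq_mul] at h2
    exact h2
  have h3 := mem_centralizer_singleton_iff.mp (hLc hl)
  calc l * c * z * (l * c)⁻¹ = l * (c * z * c⁻¹) * l⁻¹ := by group
    _ = c * z * c⁻¹ := by rw [h3, mul_inv_cancel_right]

theorem solvable_aux : ∀ (n : ℕ) {X : Type u} [Group X] [Finite X] (s : X) (G : Subgroup X),
    G ⊔ zpowers s = ⊤ → Good s G → Nat.card G = n → Group.IsSolvable G := by
  intro n
  induction n using Nat.strong_induction_on with
  | _ n ih =>
  intro X _ _ s G hgen h hcard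
  haveI := Fact.mk Nat.prime_two
  have hrec : ∀ {Y : Type u} [Group Y] [Finite Y] (t : Y) (H : Subgroup Y), Good t H →
      Nat.card H < n → Group.IsSolvable H := by
    intro Y _ _ t H hH hlt
    have hHT : H ≤ H ⊔ zpowers t := le_sup_left
    haveI := ih _ hlt _ (H.subgroupOf (H ⊔ zpowers t)) (subgroupOf_sup_zpowers H t)
      (hH.subgroupOf hHT (mem_sup_right (mem_zpowers t)))
      (Nat.card_congr (subgroupOfEquivOfLe hHT).toEquiv)
    exact Group.isSolvable_of_surjective (f := (subgroupOfEquivOfLe hHT).toMonoidHom)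
      (subgroupOfEquivOfLe hHT).surjective
  by_contra hns
  have hlt : ∀ H : Subgroup X, H ≤ G → H ≠ G → Nat.card H < n := fun H hle hne =>
    hcard ▸ lt_of_le_of_ne (card_le_of_le hle) fun e => hne (eq_of_le_of_card_ge hle e.ge)
  -- a minimal counterexample has no invariant subgroup
  have hmin : ∀ N : Subgroup X, G ≤ normalizer (N : Set X) → s ∈ normalizer (N : Set X) → N ≤ G →
      N = ⊥ ∨ N = G := by
    intro N hGN hsN hNG
    by_contra hne
    push_neg at hne
    haveI : N.Normal := normalizer_eq_top_iff.mp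
      (top_le_iff.mp (hgen ▸ sup_le hGN (zpowers_le.mpr hsN)))
    set f := QuotientGroup.mk' N with hf
    haveI h1 := hrec s N (h.mono hNG hsN) (hlt N hNG hne.2)
    have hlt' : Nat.card (G.map f) < n := by
      have h2 : Nat.card (G.map f) = N.relIndex G := by
        have h5 := relIndex_ker (K := G) f
        rw [hf, QuotientGroup.ker_mk'] at h5
        exact h5.symm
      have h3 := (N.subgroupOf G).card_mul_index
      rw [Nat.card_congr (subgroupOfEquivOfLe hNG).toEquiv] at h3
      have h4 : 1 < Nat.card N :=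
        lt_of_le_of_ne Nat.card_pos fun e => hne.1 (card_eq_one.mp e.symm)
      have h6 : 0 < N.relIndex G := by rw [← h2]; exact Nat.card_pos
      rw [h2, ← hcard, ← h3]
      exact lt_mul_left h6 h4
    haveI h2 := hrec _ (G.map f) (h.quotient N hNG) hlt'
    refine hns (Group.isSolvable_of_ker_le_range (Subgroup.inclusion hNG) (f.subgroupMap G) ?_)
    intro x hx
    exact ⟨⟨x, (QuotientGroup.eq_one_iff (x : X)).mp (congrArg Subtype.val hx)⟩, rfl⟩
  have hna : ¬ ∀ a ∈ G, ∀ b ∈ G, Commute a b := fun hc =>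
    hns (Group.isSolvable_of_comm fun a b => Subtype.ext (hc a a.2 b b.2).eq)
  have heven : 2 ∣ Nat.card G := by
    by_contra hodd
    exact hns (Cfsg.Agent.S0205.result (Nat.not_even_iff_odd.mp fun he => hodd he.two_dvd))
  haveI : Nontrivial G := Finite.one_lt_card_iff_nontrivial.mp
    (lt_of_lt_of_le one_lt_two (Nat.le_of_dvd Nat.card_pos heven))
  haveI : IsSimpleGroup G := ⟨fun M hM => by
    rcases h.normalized_eq hmin hna (map_subtype_le M) (by
      intro g hg
      rw [mem_normalizer_iff]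
      intro x
      constructor
      · rintro ⟨y, hy, rfl⟩
        exact ⟨⟨g, hg⟩ * y * ⟨g, hg⟩⁻¹, hM.conj_mem y hy _, rfl⟩
      · rintro ⟨y, hy, hyx⟩
        refine ⟨⟨g, hg⟩⁻¹ * y * (⟨g, hg⟩⁻¹)⁻¹, hM.conj_mem y hy _, ?_⟩
        simp only [coe_subtype] at hyx
        simp [hyx, mul_assoc]) with h1 | h1
    · exact Or.inl ((map_eq_bot_iff_of_injective M G.subtype_injective).mp h1)
    · refine Or.inr (map_injective G.subtype_injective ?_)
      rw [h1, ← MonoidHom.range_eq_map, range_subtype]⟩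
  have hnaG : ¬ ∀ a b : G, a * b = b * a := fun hc =>
    hna fun a ha b hb => congrArg Subtype.val (hc ⟨a, ha⟩ ⟨b, hb⟩)
  -- the automorphism
  set σ : MulAut G := G.normalizerMonoidHom ⟨s, h.norm⟩ with hσdef
  have hσapp : ∀ x : G, ((σ x : G) : X) = s * x * s⁻¹ := fun _ => rfl
  have hσfix : ∀ x : G, σ x = x ↔ Commute s x := fun x => by
    rw [Subtype.ext_iff, hσapp]; exact mul_inv_eq_iff_eq_mul
  have hσ3 : σ ^ 3 = 1 := by
    have hs3 : (⟨s, h.norm⟩ : normalizer (G : Set X)) ^ 3 = 1 := Subtype.ext (by simpa using h.pow)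
    rw [hσdef, ← map_pow, hs3, map_one]
  -- the invariant Sylow subgroup
  obtain ⟨P, hPG, hsP, hP2, hPi⟩ := h.exists_sylow
  have hS2 : IsPGroup 2 (P.subgroupOf G) := hP2.comap_of_injective _ G.subtype_injective
  let S : Sylow 2 G := hS2.toSylow fun hd => Nat.not_even_iff_odd.mpr hPi (even_iff_two_dvd.mpr hd)
  have hSP : (S : Subgroup G).map G.subtype = P := map_subgroupOf_eq_of_le hPG
  have hmemS : ∀ x : G, x ∈ (S : Subgroup G) ↔ (x : X) ∈ P := fun x => mem_subgroupOf
  have hcl : ⁅⁅(S : Subgroup G), (S : Subgroup G)⁆, (S : Subgroup G)⁆ = ⊥ := by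
    refine (map_eq_bot_iff_of_injective _ G.subtype_injective).mp ?_
    rw [Subgroup.map_commutator, Subgroup.map_commutator, hSP]
    exact h.class_two hPG hP2 hsP
  have hσS : ∀ x ∈ (S : Subgroup G), σ x ∈ (S : Subgroup G) := fun x hx => by
    rw [hmemS, hσapp]; exact (mem_normalizer_iff.mp hsP _).mp ((hmemS x).mp hx)
  have hσS' : (S : Subgroup G).map σ.toMonoidHom = S := by
    refine eq_of_le_of_card_ge ?_ (le_of_eq (card_map_of_injective σ.injective).symm)
    rintro _ ⟨x, hx, rfl⟩; exact hσS x hx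
  have hconjσ : ∀ T : Subgroup G, T.map σ.toMonoidHom = T →
      s ∈ normalizer (T.map G.subtype : Set X) := by
    intro T hT
    rw [mem_normalizer_iff_map_conj_eq]
    conv_rhs => rw [← hT]
    rw [map_map, map_map]
    rfl
  have hSne : (S : Subgroup G) ≠ ⊥ := S.ne_bot_of_dvd_card heven
  have hSnormal : ¬ (S : Subgroup G).Normal := fun hn => by
    rcases hn.eq_bot_or_eq_top with h1 | h1
    · exact hSne h1
    · exact hnaG (IsSimpleGroup.comm_iff_isSolvable.mpr (by
        have h2 : IsPGroup 2 G := (h1 ▸ S.2 : IsPGroup 2 (⊤ : Subgroup G)).of_equiv topEquiv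
        haveI := h2.isNilpotent
        infer_instance))
  -- the normaliser of `S`
  set HS := (normalizer ((S : Subgroup G) : Set G)).map G.subtype with hHS
  have hHSG : HS ≤ G := map_subtype_le _
  have hHSne : HS ≠ G := fun e => hSnormal (normalizer_eq_top_iff.mp
    (map_injective G.subtype_injective (by rw [← hHS, e, ← MonoidHom.range_eq_map, range_subtype])))
  have hsHS : s ∈ normalizer (HS : Set X) := hconjσ _ (by
    rw [map_equiv_normalizer_eq]; exact congrArg (fun T : Subgroup G => normalizer (T : Set G)) hσS')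
  obtain ⟨O, L, hspl⟩ := (h.mono hHSG hsHS).exists_split
    (hrec s HS (h.mono hHSG hsHS) (hlt HS hHSG hHSne))
  have hPH : P ≤ HS := hSP ▸ map_mono le_normalizer
  have hHP : HS ≤ normalizer (P : Set X) := by
    conv_rhs => rw [← hSP]
    exact le_normalizer_map _
  have hPiH : ∀ {H : Subgroup X}, P ≤ H → H ≤ G → Odd (P.relIndex H) := fun {H} h1 h2 =>
    hPi.of_dvd_nat (Dvd.intro _ (relIndex_mul_relIndex P H G h1 h2))
  -- the Thompson subgroup
  set J := Cfsg.thompsonSubgroupOf 2 (S : Subgroup G) with hJdef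
  have hJ : J.map σ.toMonoidHom = J := by
    rw [hJdef, H34.map_thompsonSubgroupOf σ, hσS']
  set HJ := (normalizer (J : Set G)).map G.subtype with hHJ
  have hHJG : HJ ≤ G := map_subtype_le _
  have hHJne : HJ ≠ G := fun e => by
    have h1 : J.Normal := normalizer_eq_top_iff.mp
      (map_injective G.subtype_injective (by rw [← hHJ, e, ← MonoidHom.range_eq_map, range_subtype]))
    rcases h1.eq_bot_or_eq_top with h2 | h2
    · exact H23.thompsonSubgroupOf_ne_bot S.2 hSne h2
    · refine hSnormal ?_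
      rw [top_le_iff.mp (h2.ge.trans (H23.thompsonSubgroupOf_le _))]
      infer_instance
  have hsHJ : s ∈ normalizer (HJ : Set X) := hconjσ _ (by
    rw [map_equiv_normalizer_eq]; exact congrArg (fun T : Subgroup G => normalizer (T : Set G)) hJ)
  obtain ⟨O', L', hspl'⟩ := (h.mono hHJG hsHJ).exists_split
    (hrec s HJ (h.mono hHJG hsHJ) (hlt HJ hHJG hHJne))
  have hPJ : P ≤ HJ := hSP ▸ map_mono (H23.le_normalizer_thompsonSubgroupOf _)
  refine false_of_simple hnaG S ⟨h.three, heven, hσ3, fun x y hx hy => Subtype.ext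
    (h.comm x x.2 y y.2 ((hσfix x).mp hx) ((hσfix y).mp hy)).eq,
    fun x hx hxx => Subtype.ext (h.odd x x.2 ((hσfix x).mp hx) (congrArg Subtype.val hxx)),
    hσS, ?_, ?_⟩
  · intro A g hA hg
    obtain ⟨n, hn, hnA⟩ := thompson_controls h.three S hcl hA hg
    obtain ⟨m, hmH, hmP, hmA⟩ := exists_normalizer_conj hspl' hPJ hP2 (hPiH hPJ hHJG)
      (n := (n : X)) (mem_map_of_mem G.subtype hn) (A := G.subtype '' A)
      (by rintro _ ⟨a, ha, rfl⟩; exact (hmemS a).mp (hA ha))
      (by rintro _ ⟨a, ha, rfl⟩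
          have h1 := (hmemS _).mp (hg a ha)
          rw [← hnA a ha] at h1
          exact h1)
    refine ⟨⟨m, hHJG hmH⟩, ?_, fun a ha => ?_⟩
    · rw [mem_normalizer_iff]
      intro x
      rw [hmemS, hmemS]
      exact mem_normalizer_iff.mp hmP (x : X)
    · rw [← hnA a ha]
      exact Subtype.ext (hmA _ ⟨a, ha, rfl⟩)
  · intro n hn
    obtain ⟨c, hc, hsc, hcz⟩ := exists_fixed_act hspl hPH hP2 (hPiH hPH hHSG) hHP
      (mem_map_of_mem G.subtype hn)
    obtain ⟨c', hc', rfl⟩ := hc
    refine ⟨c', hc', (hσfix c').mpr hsc, fun z hz hzc => Subtype.ext ?_⟩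
    exact hcz z ((hmemS z).mp hz) fun p hp =>
      (hzc ⟨p, hPG hp⟩ ((hmemS _).mpr hp)).map G.subtype

/-- **Solvability**. -/
theorem Good.isSolvable (h : Good s G) : Group.IsSolvable G := by
  have hGH : G ≤ G ⊔ zpowers s := le_sup_left
  haveI := solvable_aux _ _ (G.subgroupOf (G ⊔ zpowers s)) (subgroupOf_sup_zpowers G s)
    (h.subgroupOf hGH (mem_sup_right (mem_zpowers s))) rfl
  exact Group.isSolvable_of_surjective (f := (subgroupOfEquivOfLe hGH).toMonoidHom)
    (subgroupOfEquivOfLe hGH).surjective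

end Cfsg.Agent.H35.Collins
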