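import Cfsg.Agent.H35.Collins.Main
import Cfsg.Agent.H19.PLengthOne

/-!
Fixed-point-free actions of the symmetric group of degree three.
-/

set_option autoImplicit false

namespace Cfsg.Agent.H35.Collins

open Subgroup

universe u

variable {G : Type u} [Group G] [Finite G]

/-- The fixed points of an element of order three of a fixed-point-free symmetric group of degree
three form an abelian group of odd order. -/
theorem fixed_abelian_odd (Sig : Subgroup (MulAut G)) (hcard : Nat.card Sig = 6)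
    (hfpf : ∀ g : G, (∀ σ ∈ Sig, σ g = g) → g = 1) {σ : MulAut G} (hσ : σ ∈ Sig)
    (hσ3 : orderOf σ = 3) :
    (∀ x y : G, σ x = x → σ y = y → Commute x y) ∧ ∀ x : G, σ x = x → x * x = 1 → x = 1 := by
  haveI := Fact.mk Nat.prime_two
  obtain ⟨t', ht'⟩ := exists_prime_orderOf_dvd_card' 2 (G := Sig) (by rw [hcard]; norm_num)
  set t : MulAut G := (t' : MulAut G) with htdef
  have ht2 : orderOf t = 2 := by rw [htdef, Subgroup.orderOf_coe, ht']
  have htSig : t ∈ Sig := t'.2
  -- `⟨σ⟩` is normal in `Sig`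
  have hzσ : zpowers σ ≤ Sig := zpowers_le.mpr hσ
  have hidx : ((zpowers σ).subgroupOf Sig).index = 2 := by
    have h1 := ((zpowers σ).subgroupOf Sig).card_mul_index
    rw [Nat.card_congr (subgroupOfEquivOfLe hzσ).toEquiv, Nat.card_zpowers, hσ3, hcard] at h1
    omega
  have hn : ((zpowers σ).subgroupOf Sig).Normal := Subgroup.normal_of_index_eq_two hidx
  have hconj : t * σ * t⁻¹ ∈ zpowers σ :=
    mem_subgroupOf.mp (hn.conj_mem (⟨σ, hσ⟩ : Sig) (mem_subgroupOf.mpr (mem_zpowers σ)) t')
  -- the subgroup of fixed points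
  let C : Subgroup G :=
    { carrier := {g | σ g = g}
      mul_mem' := fun {a b} ha hb => by
        simp only [Set.mem_ofPred_eq] at ha hb ⊢; rw [map_mul, ha, hb]
      one_mem' := map_one σ
      inv_mem' := fun {a} ha => by
        simp only [Set.mem_ofPred_eq] at ha ⊢; rw [map_inv, ha] }
  have hzfix : ∀ τ ∈ zpowers σ, ∀ g : G, σ g = g → τ g = g := by
    intro τ hτ g hg
    obtain ⟨m, rfl⟩ := (isOfFinOrder_of_finite σ).mem_powers_iff_mem_zpowers.mpr hτ
    clear hτ
    induction m with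
    | zero => simp
    | succ m ih =>
      show (σ ^ (m + 1)) g = g
      rw [pow_succ, MulAut.mul_apply, hg]
      exact ih
  have htt : ∀ x : G, t (t x) = x := fun x => by
    rw [← MulAut.mul_apply, ← pow_two, ← ht2, pow_orderOf_eq_one, MulAut.one_apply]
  have htC : ∀ g ∈ C, t g ∈ C := by
    intro g hg
    show σ (t g) = t g
    have ht' : t⁻¹ = t := inv_eq_of_mul_eq_one_right (by rw [← pow_two, ← ht2, pow_orderOf_eq_one])
    have h1 := hzfix _ hconj g hg
    rw [ht', MulAut.mul_apply, MulAut.mul_apply] at h1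
    calc σ (t g) = t (t (σ (t g))) := (htt _).symm
      _ = t g := by rw [h1]
  let φ : C →* C :=
    { toFun := fun x => ⟨t (x : G), htC _ x.2⟩
      map_one' := Subtype.ext (map_one t)
      map_mul' := fun a b => Subtype.ext (map_mul t (a : G) b) }
  have hinvol : Function.Involutive φ := fun x => Subtype.ext (htt (x : G))
  have hffree : MonoidHom.FixedPointFree φ := by
    intro x hx
    refine Subtype.ext (hfpf x fun τ hτ => ?_)
    let T : Subgroup (MulAut G) :=
      { carrier := {ρ | ρ (x : G) = x}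
        mul_mem' := fun {a b} ha hb => by
          simp only [Set.mem_ofPred_eq] at ha hb ⊢; rw [MulAut.mul_apply, hb, ha]
        one_mem' := rfl
        inv_mem' := fun {a} ha => by
          simp only [Set.mem_ofPred_eq] at ha ⊢
          conv_lhs => rw [← ha]
          rw [← MulAut.mul_apply, inv_mul_cancel, MulAut.one_apply] }
    have hσT : σ ∈ Sig ⊓ T := ⟨hσ, x.2⟩
    have htT : t ∈ Sig ⊓ T := ⟨htSig, congrArg Subtype.val hx⟩
    have h6 : 6 ∣ Nat.card (Sig ⊓ T : Subgroup (MulAut G)) := by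
      refine Nat.Coprime.mul_dvd_of_dvd_of_dvd (show Nat.Coprime 2 3 by norm_num) ?_ ?_
      · rw [← ht2]; exact orderOf_dvd_natCard _ htT
      · rw [← hσ3]; exact orderOf_dvd_natCard _ hσT
    have heq : Sig ⊓ T = Sig := eq_of_le_of_card_ge inf_le_left
      (hcard ▸ Nat.le_of_dvd Nat.card_pos h6)
    exact (inf_eq_left.mp heq hτ : τ (x : G) = x)
  refine ⟨fun x y hx hy => ?_, fun x hx hxx => ?_⟩
  · exact congrArg Subtype.val
      (hffree.commute_all_of_involutive hinvol (⟨x, hx⟩ : C) ⟨y, hy⟩).eq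
  · have h1 : φ (⟨x, hx⟩ : C) = (⟨x, hx⟩ : C)⁻¹ :=
      congrFun (hffree.coe_eq_inv_of_involutive hinvol) _
    have h2 : t x = x⁻¹ := congrArg Subtype.val h1
    rw [inv_eq_of_mul_eq_one_right hxx] at h2
    exact congrArg Subtype.val (hffree (⟨x, hx⟩ : C) (Subtype.ext h2))

/-- The consequences for one automorphism. -/
theorem of_fixed_abelian_odd (h3 : ¬ 3 ∣ Nat.card G) {σ : MulAut G} (hσ : σ ^ 3 = 1)
    (hcomm : ∀ x y : G, σ x = x → σ y = y → Commute x y)
    (hodd : ∀ x : G, σ x = x → x * x = 1 → x = 1) :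
    Group.IsSolvable G ∧ Odd (Cfsg.pPrimePCore 2 G).index ∧
      Cfsg.pPrimePCore 2 G ⊔ Subgroup.closure {g : G | σ g = g} = ⊤ := by
  haveI := Fact.mk Nat.prime_two
  let φ : zpowers σ →* MulAut G := (zpowers σ).subtype
  haveI : Finite (SemidirectProduct G (zpowers σ) φ) :=
    Finite.of_equiv _ SemidirectProduct.equivProd.symm
  set ι : G →* SemidirectProduct G (zpowers σ) φ := SemidirectProduct.inl with hι
  have hιinj : Function.Injective ι := SemidirectProduct.inl_injective
  set s : SemidirectProduct G (zpowers σ) φ := SemidirectProduct.inr ⟨σ, mem_zpowers σ⟩ with hs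
  have hsι : ∀ g, s * ι g * s⁻¹ = ι (σ g) := fun g => by
    rw [hs, ← map_inv]
    exact (SemidirectProduct.inl_aut (φ := φ) (⟨σ, mem_zpowers σ⟩ : zpowers σ) g).symm
  have hfix : ∀ g, Commute s (ι g) → σ g = g := fun g hg => hιinj (by
    rw [← hsι, hg.eq, mul_inv_cancel_right])
  have hgood : Good s ι.range := by
    refine ⟨?_, ?_, ?_, ?_, ?_⟩
    · rw [hs, ← map_pow, show (⟨σ, mem_zpowers σ⟩ : zpowers σ) ^ 3 = 1 from
        Subtype.ext (by simpa using hσ), map_one]
    · haveI : ι.range.Normal := by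
        rw [hι, SemidirectProduct.range_inl_eq_ker_rightHom]; infer_instance
      rw [normalizer_eq_top]; exact mem_top _
    · rw [← Nat.card_congr (MonoidHom.ofInjective hιinj).toEquiv]; exact h3
    · rintro _ ⟨x, rfl⟩ _ ⟨y, rfl⟩ hx hy; exact (hcomm x y (hfix x hx) (hfix y hy)).map ι
    · rintro _ ⟨x, rfl⟩ hx hxx
      rw [← map_mul, ← map_one ι] at hxx
      rw [hodd x (hfix x hx) (hιinj hxx), map_one]
  have hsol := hgood.isSolvable
  obtain ⟨O, L, hsp⟩ := hgood.exists_split hsol
  have hsolG : Group.IsSolvable G := by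
    haveI := hsol
    exact Group.isSolvable_of_isSolvable_injective (f := ι.rangeRestrict) fun a b hab =>
      hιinj (congrArg Subtype.val hab)
  have hnorm : ∀ {T : Subgroup (SemidirectProduct G (zpowers σ) φ)},
      ι.range ≤ normalizer (T : Set _) → (T.comap ι).Normal := fun {T} hT => ⟨fun x hx g => by
    rw [Subgroup.mem_comap, map_mul, map_mul, map_inv]
    exact (mem_normalizer_iff.mp (hT ⟨g, rfl⟩) _).mp hx⟩
  have hOle : O.comap ι ≤ Cfsg.pPrimeCore 2 G := by
    refine H19.le_pPrimeCore (hnorm hsp.normO) (Nat.coprime_two_right.mpr ?_)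
    have h1 : (O.comap ι).map ι = O := map_comap_eq_self (hsp.oL.trans hsp.lG)
    rw [← card_map_of_injective hιinj, h1]
    exact hsp.odd
  have hLle : L.comap ι ≤ Cfsg.pPrimePCore 2 G := by
    refine H19.le_pPrimePCore_of_forall (hnorm hsp.normL) fun x hx => ?_
    obtain ⟨k, hk⟩ := hsp.two
    refine ⟨k, hOle ?_⟩
    haveI : (O.subgroupOf L).Normal :=
      normal_subgroupOf_of_le_normalizer (hsp.lG.trans hsp.normO)
    have h1 : (QuotientGroup.mk ⟨ι x, hx⟩ : L ⧸ O.subgroupOf L) ^ (O.relIndex L) = 1 :=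
      pow_card_eq_one'
    rw [← QuotientGroup.mk_pow, QuotientGroup.eq_one_iff, hk] at h1
    rw [Subgroup.mem_comap, map_pow]
    exact mem_subgroupOf.mp h1
  refine ⟨hsolG, ?_, ?_⟩
  · have h1 : (L.comap ι).index = L.relIndex ι.range := index_comap L ι
    exact (h1 ▸ hsp.index).of_dvd_nat (index_dvd_of_le hLle)
  · refine eq_top_iff.mpr fun g _ => ?_
    obtain ⟨l, hl, c, ⟨c₀, rfl⟩, hc, e⟩ := hsp.cover (ι g) ⟨g, rfl⟩
    obtain ⟨l₀, rfl⟩ := hsp.lG hl
    rw [← map_mul] at e
    rw [hιinj e]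
    exact mul_mem_sup (hLle hl) (subset_closure (hfix c₀ hc))

end Cfsg.Agent.H35.Collins
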